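import Cfsg.Agent.H419.EP.Iface
import Cfsg.Agent.H883.Bridge
import Cfsg.Agent.LieClassical.OrthCenter

/-!
# S3499-VIII-c: the models of `PΩ`
-/

set_option autoImplicit false

namespace Cfsg.Agent.H775.EP

open Subgroup Cfsg Cfsg.Geo Cfsg.Agent.H419.EP
open QuadraticMap Cfsg.Agent.LieClassical.OrthCore Cfsg.Agent.LieClassical.OrthTrans
open scoped MatrixGroups

variable {ι : Type} [Fintype ι] [DecidableEq ι] {F : Type*} [Field F]

omit [Fintype ι] [DecidableEq ι] in
theorem nondegenerate_of_nondeg {Q : QuadraticForm F (ι → F)} (hQ : Nondeg Q) : (polarBilin Q).Nondegenerate := by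
  refine ⟨fun x hx => hQ x hx, fun y hy => hQ y fun x => ?_⟩
  have := hy x
  rw [polar_comm]
  exact this

/-- The isomorphism of `Omega F Q` with its image in `GL`. -/
noncomputable def omEquiv (Q : (ι → F) → F) : Omega F Q ≃* omegaGL Q :=
  (Omega F Q).equivMapOfInjective _ (isometryGroup F Q).subtype_injective

theorem coe_omEquiv (Q : (ι → F) → F) (x : Omega F Q) :
    ((omEquiv Q x : omegaGL Q) : GL ι F) = ((x : isometryGroup F Q) : GL ι F) := rfl

theorem coe_omEquiv_symm (Q : (ι → F) → F) (s : omegaGL Q) :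
    ((((omEquiv Q).symm s : Omega F Q) : isometryGroup F Q) : GL ι F) = (s : GL ι F) := by
  rw [← coe_omEquiv, MulEquiv.apply_symm_apply]

/-- an element of `Omega` is central iff it is scalar -/
theorem center_iff_scalar [Finite F] {Q : (ι → F) → F} (hQ : IsNondegenerateQuadraticForm Q)
    (hn : 5 ≤ Fintype.card ι) (x : Omega F Q) :
    x ∈ Subgroup.center (Omega F Q) ↔ ((x : isometryGroup F Q) : GL ι F) ∈ scalars ι F := by
  rw [mem_scalars_iff]
  constructor
  · intro h
    obtain ⟨Q', rfl, hQ'⟩ := H883.Bridge.exists_quadraticForm hQ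
    have hG := H883.Bridge.good_of_card hQ' hn
    rcases (LieClassical.OrthCenter.mem_center_omega_iff (nondegenerate_of_nondeg hQ') (by omega) hG.sing x).1 h with
      h | h
    · exact ⟨1, by rw [h, Units.val_one, one_smul]⟩
    · exact ⟨-1, by rw [h, Units.val_neg, Units.val_one, neg_smul, one_smul]⟩
  · rintro ⟨c, hc⟩
    rw [Subgroup.mem_center_iff]
    intro g
    apply Subtype.ext
    apply Subtype.ext
    apply Units.ext
    show ((((g : isometryGroup F Q) : GL ι F) : Matrix ι ι F) * (((x : isometryGroup F Q) : GL ι F) : Matrix ι ι F)) =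
      ((((x : isometryGroup F Q) : GL ι F) : Matrix ι ι F) * (((g : isometryGroup F Q) : GL ι F) : Matrix ι ι F))
    rw [hc, Matrix.mul_smul, Matrix.mul_one, Matrix.smul_mul, Matrix.one_mul]

/-- **The model of `PΩ(Q)`.** -/
noncomputable def modelOmega [Finite F] {Q : (ι → F) → F} (hQ : IsNondegenerateQuadraticForm Q)
    (hn : 5 ≤ Fintype.card ι) : Model (POmega F Q) (omegaGL Q) where
  π := (QuotientGroup.mk' (Subgroup.center (Omega F Q))).comp (omEquiv Q).symm.toMonoidHom
  surj := (QuotientGroup.mk'_surjective _).comp (omEquiv Q).symm.surjective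
  ker := fun s => by
    have h1 : (QuotientGroup.mk' (Subgroup.center (Omega F Q))).comp (omEquiv Q).symm.toMonoidHom s = 1 ↔
        (omEquiv Q).symm s ∈ Subgroup.center (Omega F Q) := QuotientGroup.eq_one_iff _
    rw [h1, center_iff_scalar hQ hn, coe_omEquiv_symm]

theorem model_omega [Finite F] {Q : (ι → F) → F} (hQ : IsNondegenerateQuadraticForm Q)
    (hn : 5 ≤ Fintype.card ι) : Nonempty (Model (POmega F Q) (omegaGL Q)) := ⟨modelOmega hQ hn⟩

/-! ### The standard forms -/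

theorem nd_plus (m : ℕ) (F : Type*) [Field F] : IsNondegenerateQuadraticForm (quadFormPlus m F) := by
  rw [← LieClassical.OrthForms.coe_plusForm]
  exact H883.Bridge.isNondegenerateQuadraticForm (LieClassical.OrthForms.nondeg_plusForm m F)

theorem nd_minus (m : ℕ) (F : Type*) [Field F] [Finite F] (a b : F)
    (hab : ∀ z₁ z₂ : F, z₁ ^ 2 + a * z₁ * z₂ + b * z₂ ^ 2 = 0 → z₁ = 0 ∧ z₂ = 0) :
    IsNondegenerateQuadraticForm (quadFormMinus m F a b) := by
  rw [← LieClassical.OrthForms.coe_minusForm]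
  exact H883.Bridge.isNondegenerateQuadraticForm (LieClassical.OrthForms.nondeg_minusForm m F a b hab)

theorem nd_odd (m : ℕ) (F : Type*) [Field F] (h2 : (2 : F) ≠ 0) :
    IsNondegenerateQuadraticForm (quadFormOdd m F) := by
  rw [← LieClassical.OrthForms.coe_oddForm]
  exact H883.Bridge.isNondegenerateQuadraticForm (LieClassical.OrthForms.nondeg_oddForm m F h2)

theorem two_ne_zero_of_odd {F : Type*} [Field F] [Fintype F] (h : Odd (Fintype.card F)) : (2 : F) ≠ 0 := by
  intro h0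
  have : CharP F 2 := CharTwo.of_one_ne_zero_of_two_eq_zero one_ne_zero h0
  have h5 := (CharP.cast_eq_zero_iff F 2 _).1 (FiniteField.cast_card_eq_zero F)
  exact (Nat.not_even_iff_odd.2 h) (even_iff_two_dvd.2 h5)

theorem card_plus (m : ℕ) : Fintype.card (Fin m ⊕ Fin m) = 2 * m := by
  simp only [Fintype.card_sum, Fintype.card_fin]
  ring

theorem card_minus (m : ℕ) : Fintype.card ((Fin m ⊕ Fin m) ⊕ Fin 2) = 2 * m + 2 := by
  simp only [Fintype.card_sum, Fintype.card_fin]
  ring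

theorem card_odd (m : ℕ) : Fintype.card (Unit ⊕ (Fin m ⊕ Fin m)) = 2 * m + 1 := by
  simp only [Fintype.card_sum, Fintype.card_fin, Fintype.card_unit]
  ring

theorem model_plus (m : ℕ) (hm : 3 ≤ m) (F : Type*) [Field F] [Finite F] :
    Nonempty (Model (POmega F (quadFormPlus m F)) (omegaGL (quadFormPlus m F))) :=
  model_omega (nd_plus m F) (by rw [card_plus]; omega)

theorem model_minus (m : ℕ) (hm : 2 ≤ m) (F : Type*) [Field F] [Finite F] (a b : F)
    (hab : ∀ z₁ z₂ : F, z₁ ^ 2 + a * z₁ * z₂ + b * z₂ ^ 2 = 0 → z₁ = 0 ∧ z₂ = 0) :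
    Nonempty (Model (POmega F (quadFormMinus m F a b)) (omegaGL (quadFormMinus m F a b))) :=
  model_omega (nd_minus m F a b hab) (by rw [card_minus]; omega)

theorem model_odd (m : ℕ) (hm : 2 ≤ m) (F : Type*) [Field F] [Finite F] (h2 : (2 : F) ≠ 0) :
    Nonempty (Model (POmega F (quadFormOdd m F)) (omegaGL (quadFormOdd m F))) :=
  model_omega (nd_odd m F h2) (by rw [card_odd]; omega)

/-! ### From the predicates of the list -/

theorem of_isPOmegaPlus {G : Type*} [Group G] (h : IsPOmegaPlus G) :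
    ∃ (F : Type) (_ : Field F) (_ : Fintype F) (m : ℕ), 4 ≤ m ∧ IsNondegenerateQuadraticForm (quadFormPlus m F) ∧
      Nonempty (Model G (omegaGL (quadFormPlus m F))) := by
  obtain ⟨F, iF, iN, m, hm, ⟨e⟩⟩ := h
  obtain ⟨M⟩ := model_plus m (by omega) F
  exact ⟨F, iF, iN, m, hm, nd_plus m F, ⟨M.trans e.symm⟩⟩

theorem of_isPOmegaMinus {G : Type*} [Group G] (h : IsPOmegaMinus G) :
    ∃ (F : Type) (_ : Field F) (_ : Fintype F) (m : ℕ) (a b : F), 3 ≤ m ∧
      (∀ z₁ z₂ : F, z₁ ^ 2 + a * z₁ * z₂ + b * z₂ ^ 2 = 0 → z₁ = 0 ∧ z₂ = 0) ∧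
      IsNondegenerateQuadraticForm (quadFormMinus m F a b) ∧ Nonempty (Model G (omegaGL (quadFormMinus m F a b))) := by
  obtain ⟨F, iF, iN, m, a, b, hm, hab, ⟨e⟩⟩ := h
  obtain ⟨M⟩ := model_minus (m - 1) (by omega) F a b hab
  exact ⟨F, iF, iN, m - 1, a, b, by omega, hab, nd_minus _ F a b hab, ⟨M.trans e.symm⟩⟩

theorem of_isPOmegaOdd {G : Type*} [Group G] (h : IsPOmegaOdd G) :
    ∃ (F : Type) (_ : Field F) (_ : Fintype F) (m : ℕ), 3 ≤ m ∧ Odd (Fintype.card F) ∧
      IsNondegenerateQuadraticForm (quadFormOdd m F) ∧ Nonempty (Model G (omegaGL (quadFormOdd m F))) := by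
  obtain ⟨F, iF, iN, m, hm, hodd, ⟨e⟩⟩ := h
  obtain ⟨M⟩ := model_odd m (by omega) F (two_ne_zero_of_odd hodd)
  exact ⟨F, iF, iN, m, hm, hodd, nd_odd m F (two_ne_zero_of_odd hodd), ⟨M.trans e.symm⟩⟩

end Cfsg.Agent.H775.EP
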